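import Cfsg.Agent.Lib.ThreeFree.Geometry

/-!
# No bad involution (S0336, case of a normal elementary strongly closed subgroup)

`G` acts transitively on `Ω` (the cosets of `N(A)`), every `a ∈ A p ∖ 1` fixes only `p`, and an
involution with two fixed points (bad) fixes `q ^ 2 + 1` points, on which the subgroups `A r` induce
a Suzuki group.  Then `3` divides the order of `G`.
-/

set_option autoImplicit false
set_option linter.unusedSectionVars false

namespace Cfsg.Agent.Lib.ThreeFree.Lines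

open Pointwise

/-- The fixed points of an element. -/
def fix {G : Type*} [Group G] (Ω : Type*) [MulAction G Ω] (g : G) : Set Ω := {p | g • p = p}

/-- An involution with two fixed points. -/
def Bad {G : Type*} [Group G] (Ω : Type*) [MulAction G Ω] (v : G) : Prop :=
  v * v = 1 ∧ v ≠ 1 ∧ ∃ p p' : Ω, p ≠ p' ∧ v • p = p ∧ v • p' = p'

variable {G Ω : Type*} [Group G] [MulAction G Ω]

/-- The subgroup generated by the `A r`, `r` a fixed point of `t`. -/
def L (A : Ω → Subgroup G) (t : G) : Subgroup G := ⨆ r ∈ fix Ω t, A r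

/-- The hypotheses: the local structure of the bad involutions. -/
structure Config (G Ω : Type*) [Group G] [MulAction G Ω] (n : ℕ) where
  A : Ω → Subgroup G
  trans : ∀ p p' : Ω, ∃ g : G, g • p = p'
  moves : ∀ t : G, t * t = 1 → t ≠ 1 → ∃ p : Ω, t • p ≠ p
  A_card : ∀ p, Nat.card (A p) = 2 ^ n
  A_inv : ∀ p, ∀ a ∈ A p, a * a = 1
  A_conj : ∀ (g : G) p, ∀ a ∈ A p, g * a * g⁻¹ ∈ A (g • p)
  A_fix : ∀ p, ∀ a ∈ A p, a ≠ 1 → ∀ x : Ω, a • x = x ↔ x = p
  A_cent : ∀ (v : G) (p : Ω), Bad Ω v → v • p = p → ∀ a ∈ A p, Commute v a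
  fix_card : ∀ t : G, Bad Ω t → (fix Ω t).ncard = (2 ^ n) ^ 2 + 1
  gen : ∀ t : G, Bad Ω t → ∀ p p' r, p ∈ fix Ω t → p' ∈ fix Ω t → p ≠ p' → r ∈ fix Ω t →
    ∃ g ∈ A p ⊔ A p', g • p = r
  torus : ∀ t : G, Bad Ω t → ∀ r ∈ fix Ω t, ∀ a ∈ A r, a ≠ 1 → ∀ b ∈ A r, b ≠ 1 →
    ∃ g ∈ L A t, g • r = r ∧ g * a * g⁻¹ = b
  root_trans : ∀ t : G, Bad Ω t → ∀ r ∈ fix Ω t, ∀ y ∈ A r, y ≠ 1 → ∀ s ∈ fix Ω t, s ≠ r →
    ∀ s' ∈ fix Ω t, s' ≠ r → ∃ g ∈ L A t, g • r = r ∧ Commute g y ∧ g • s = s'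
  inner : ∀ u : G, Bad Ω u → ∀ v : G, Bad Ω v → Commute v u → ∀ r ∈ fix Ω u, v • r = r →
    ∃ y ∈ A r, ∀ s ∈ fix Ω u, (v * y) • s = s

variable {n : ℕ} (C : Config G Ω n) [Finite G] [Finite Ω]
include C

theorem commute_of_fix {t : G} (ht : Bad Ω t) {g : G} (hg : g ∈ L C.A t) : Commute g t := by
  have h : L C.A t ≤ Subgroup.centralizer {t} := by
    refine iSup₂_le fun r hr a ha => ?_
    rw [Subgroup.mem_centralizer_singleton_iff]
    exact (C.A_cent t r ht hr a ha).symm.eq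
  exact Subgroup.mem_centralizer_singleton_iff.1 (h hg)

omit C in
theorem smul_fix_of_commute {t g : G} (h : Commute g t) {p : Ω} (hp : p ∈ fix Ω t) :
    g • p ∈ fix Ω t := by
  simp only [fix, Set.mem_ofPred_eq] at hp ⊢
  rw [← mul_smul, ← h.eq, mul_smul, hp]

/-- Two points lie on at most one line. -/
theorem fix_le {t v : G} (ht : Bad Ω t) (hv : v * v = 1) {p p' : Ω} (hne : p ≠ p')
    (htp : p ∈ fix Ω t) (htp' : p' ∈ fix Ω t) (hvp : p ∈ fix Ω v) (hvp' : p' ∈ fix Ω v) :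
    fix Ω t ⊆ fix Ω v := by
  intro r hr
  by_cases hv1 : v = 1
  · show v • r = r
    rw [hv1, one_smul]
  have hvb : Bad Ω v := ⟨hv, hv1, p, p', hne, hvp, hvp'⟩
  obtain ⟨g, hg, rfl⟩ := C.gen t ht p p' r htp htp' hne hr
  refine smul_fix_of_commute ?_ hvp
  have h : C.A p ⊔ C.A p' ≤ Subgroup.centralizer {v} := by
    refine sup_le (fun a ha => ?_) fun a ha => ?_ <;> rw [Subgroup.mem_centralizer_singleton_iff]
    · exact (C.A_cent v p hvb hvp a ha).symm.eq
    · exact (C.A_cent v p' hvb hvp' a ha).symm.eq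
  exact Subgroup.mem_centralizer_singleton_iff.1 (h hg)

theorem fix_eq {t v : G} (ht : Bad Ω t) (hv : Bad Ω v) {p p' : Ω} (hne : p ≠ p')
    (htp : p ∈ fix Ω t) (htp' : p' ∈ fix Ω t) (hvp : p ∈ fix Ω v) (hvp' : p' ∈ fix Ω v) :
    fix Ω t = fix Ω v :=
  (fix_le C ht hv.1 hne htp htp' hvp hvp').antisymm (fix_le C hv ht.1 hne hvp hvp' htp htp')

omit C in
theorem fix_conj (g t : G) : fix Ω (g * t * g⁻¹) = g • fix Ω t := by
  ext p
  rw [Set.mem_smul_set_iff_inv_smul_mem]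
  show (g * t * g⁻¹) • p = p ↔ t • g⁻¹ • p = g⁻¹ • p
  rw [mul_smul, mul_smul]
  exact ⟨fun h => by rw [eq_inv_smul_iff]; exact h, fun h => by rw [h, smul_inv_smul]⟩

omit C in
theorem bad_conj {t : G} (ht : Bad Ω t) (g : G) : Bad Ω (g * t * g⁻¹) := by
  obtain ⟨h1, h2, p, p', hne, hp, hp'⟩ := ht
  refine ⟨?_, ?_, g • p, g • p', fun h => hne (smul_left_cancel g h), ?_, ?_⟩
  · calc g * t * g⁻¹ * (g * t * g⁻¹) = g * (t * t) * g⁻¹ := by group
      _ = 1 := by rw [h1]; group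
  · rwa [ne_eq, conj_eq_one_iff]
  · rw [mul_smul, inv_smul_smul, mul_smul, hp]
  · rw [mul_smul, inv_smul_smul, mul_smul, hp']

theorem eq_of_mem {p r : Ω} {a : G} (ha : a ∈ C.A p) (ha1 : a ≠ 1) (h : a • r = r) : r = p :=
  (C.A_fix p a ha ha1 r).1 h

theorem smul_self {p : Ω} {a : G} (ha : a ∈ C.A p) : a • p = p := by
  by_cases h : a = 1
  · rw [h, one_smul]
  · exact (C.A_fix p a ha h p).2 rfl

/-- A conjugate of an element of some `A r` which fixes `p` lies in `A p`. -/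
theorem mem_of_conj {r p : Ω} {a g : G} (ha : a ∈ C.A r) (ha1 : a ≠ 1)
    (hp : (g * a * g⁻¹) • p = p) : g * a * g⁻¹ ∈ C.A p := by
  have h := C.A_conj g r a ha
  rwa [eq_of_mem C h (by rwa [ne_eq, conj_eq_one_iff]) hp]

theorem odd_fix (hn : n ≠ 0) {t : G} (ht : Bad Ω t) : Odd (fix Ω t).ncard := by
  rw [C.fix_card t ht]
  have h : Even ((2 ^ n) ^ 2) := by
    rw [Nat.even_pow]; exact ⟨Nat.even_pow.2 ⟨even_two, hn⟩, two_ne_zero⟩
  exact h.add_one

/-- An involution stabilising a line fixes a point of it. -/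
theorem exists_fixed_on_line (hn : n ≠ 0) {u v : G} (hu : Bad Ω u) (hv : v * v = 1)
    (hc : Commute v u) : ∃ r ∈ fix Ω u, v • r = r := by
  classical
  haveI : Fintype ↥(fix Ω u) := Fintype.ofFinite _
  let f : Function.End ↥(fix Ω u) := fun r => ⟨v • (r : Ω), smul_fix_of_commute hc r.2⟩
  have hf : f ^ (2 ^ 1) = 1 := by
    rw [pow_one, sq]
    funext r
    show f (f r) = r
    exact Subtype.ext (by show v • v • (r : Ω) = r; rw [← mul_smul, hv, one_smul])
  have h := Equiv.Perm.card_fixedPoints_modEq (p := 2) (n := 1) hf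
  have hodd := odd_fix C hn hu
  rw [← Nat.card_coe_set_eq, Nat.card_eq_fintype_card, Nat.odd_iff] at hodd
  have : 0 < Fintype.card (Function.fixedPoints f) := by
    unfold Nat.ModEq at h; omega
  obtain ⟨⟨r, hr⟩⟩ := Fintype.card_pos_iff.1 this
  exact ⟨r, r.2, congrArg Subtype.val hr⟩

/-- The central involution of `⟨t, x⟩`. -/
theorem exists_u (hn : n ≠ 0) {t : G} (ht : Bad Ω t) {p : Ω} (hp : p ∉ fix Ω t) :
    ∃ u x : G, x ∈ C.A p ∧ x ≠ 1 ∧ Bad Ω u ∧ Commute t u ∧ p ∈ fix Ω u ∧ Commute x u ∧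
      ∃ g : G, g * t * g⁻¹ = x * u := by
  classical
  obtain ⟨x, hx, hx1⟩ : ∃ x ∈ C.A p, x ≠ 1 := by
    apply (C.A p).bot_or_exists_ne_one.resolve_left
    intro h
    have h1 := C.A_card p
    rw [h, Subgroup.card_bot] at h1
    exact (Nat.one_lt_two_pow hn).ne h1
  obtain ⟨ht2, ht1, a, b, hab, hta, htb⟩ := ht
  have hxx := C.A_inv p x hx
  have htinv : t⁻¹ = t := inv_eq_of_mul_eq_one_right ht2
  have hxinv : x⁻¹ = x := inv_eq_of_mul_eq_one_right hxx
  set z := t * x with hz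
  have hzinv : z⁻¹ = x * t := by rw [hz, mul_inv_rev, hxinv, htinv]
  have htz : t * z * t⁻¹ = z⁻¹ := by rw [hzinv, hz, htinv, ← mul_assoc t t x, ht2, one_mul]
  have hxz : x * z * x⁻¹ = z⁻¹ := by
    rw [hzinv, hz, hxinv, mul_assoc, mul_assoc t x x, hxx, mul_one]
  have htpow : ∀ i : ℕ, t * z ^ i * t⁻¹ = (z ^ i)⁻¹ := fun i => by rw [← conj_pow, htz, inv_pow]
  have hxpow : ∀ i : ℕ, x * z ^ i * x⁻¹ = (z ^ i)⁻¹ := fun i => by rw [← conj_pow, hxz, inv_pow]
  have hxconj : ∀ i : ℕ, z ^ i * x * (z ^ i)⁻¹ = z ^ (2 * i) * x := fun i => by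
    rw [← hxpow i, two_mul, pow_add]; simp only [mul_assoc, mul_inv_cancel_left]; rw [hxinv]
    simp [hxx, ← mul_assoc]
  obtain ⟨m, hm⟩ | ⟨m, hm⟩ := Nat.even_or_odd (orderOf z)
  · -- even order
    have hm0 : 0 < m := by have := orderOf_pos z; omega
    set u := z ^ m with hu
    have hu2 : u * u = 1 := by rw [hu, ← pow_add, ← hm, pow_orderOf_eq_one]
    have hu1 : u ≠ 1 := pow_ne_one_of_lt_orderOf hm0.ne' (by omega)
    have huinv : u⁻¹ = u := inv_eq_of_mul_eq_one_right hu2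
    have hcx : Commute x u := by
      have e := hxpow m
      rw [← hu, huinv] at e
      exact mul_inv_eq_iff_eq_mul.1 e
    have hct : Commute t u := by
      have e := htpow m
      rw [← hu, huinv] at e
      exact mul_inv_eq_iff_eq_mul.1 e
    have hup : u • p = p := by
      apply eq_of_mem C hx hx1
      rw [← mul_smul, hcx.eq, mul_smul, smul_self C hx]
    have htp : t • p ≠ p := hp
    have hutp : u • (t • p) = t • p := by rw [← mul_smul, ← hct.eq, mul_smul, hup]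
    have hub : Bad Ω u := ⟨hu2, hu1, p, t • p, htp.symm, hup, hutp⟩
    refine ⟨u, x, hx, hx1, hub, hct, hup, hcx, ?_⟩
    obtain ⟨k, hk⟩ | ⟨k, hk⟩ := Nat.even_or_odd m
    · exfalso
      have h1 : z ^ k * x * (z ^ k)⁻¹ = u * x := by rw [hxconj k, hu, hk, two_mul]
      have hfixp : (z ^ k * x * (z ^ k)⁻¹) • p = p := by rw [h1, mul_smul, smul_self C hx, hup]
      have hmem := mem_of_conj C hx hx1 hfixp
      rw [h1, Subgroup.mul_mem_cancel_right _ hx] at hmem
      exact htp (eq_of_mem C hmem hu1 hutp)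
    · refine ⟨z ^ k, ?_⟩
      rw [show t = z * x from by rw [hz, mul_assoc, hxx, mul_one]]
      rw [show z ^ k * (z * x) * (z ^ k)⁻¹ = z * (z ^ k * x * (z ^ k)⁻¹) from by
        rw [← mul_assoc, ← pow_succ, pow_succ']; group]
      rw [hxconj, ← mul_assoc, ← pow_succ', ← hk, ← hu]
      exact hcx.symm.eq
  · -- odd order: `t` and `x` are conjugate
    exfalso
    have h1 : z ^ (m + 1) * x * (z ^ (m + 1))⁻¹ = t := by
      rw [hxconj, show 2 * (m + 1) = orderOf z + 1 by omega, pow_succ, pow_orderOf_eq_one, one_mul,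
        hz, mul_assoc, hxx, mul_one]
    have h2 := mem_of_conj C hx hx1 (p := a) (g := z ^ (m + 1)) (by rw [h1]; exact hta)
    rw [h1] at h2
    exact hab (eq_of_mem C h2 ht1 htb).symm

/-- The data of a line through `p` stable under `t`. -/
theorem exists_y (hn : 2 ≤ n) {t : G} (ht : Bad Ω t) {p : Ω} (hp : p ∉ fix Ω t) :
    ∃ r ∈ fix Ω t, ∃ y ∈ C.A r, y ≠ 1 ∧ Bad Ω (t * y) ∧ p ∈ fix Ω (t * y) ∧
      ∃ g : G, fix Ω (t * y) = g • fix Ω t := by
  obtain ⟨u, x, hx, hx1, hub, hct, hpu, hcx, g, hg⟩ := exists_u C (by omega) ht hp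
  obtain ⟨r, hru, htr⟩ := exists_fixed_on_line C (by omega) hub ht.1 hct
  obtain ⟨y, hy, hys⟩ := C.inner u hub t ht hct r hru htr
  have hy1 : y ≠ 1 := fun h => hp (by simpa [h, fix] using hys p hpu)
  have hcomm : Commute t y := C.A_cent t r ht htr y hy
  have hty2 : t * y * (t * y) = 1 := by
    rw [mul_assoc, ← mul_assoc y t y, ← hcomm.eq, mul_assoc t y y, C.A_inv r y hy, mul_one, ht.1]
  have hty1 : t * y ≠ 1 := fun h => by
    obtain ⟨-, -, a, b, hab, hta, htb⟩ := ht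
    rw [eq_inv_of_mul_eq_one_left h, inv_eq_of_mul_eq_one_right (C.A_inv r y hy)] at hta htb
    exact hab ((eq_of_mem C hy hy1 hta).trans (eq_of_mem C hy hy1 htb).symm)
  have hrp : r ≠ p := fun h => hp (h ▸ htr)
  have hb : Bad Ω (t * y) := ⟨hty2, hty1, r, p, hrp, hys r hru, hys p hpu⟩
  have hfu : fix Ω (t * y) = fix Ω u := fix_eq C hb hub hrp (hys r hru) (hys p hpu) hru hpu
  refine ⟨r, htr, y, hy, hy1, hb, hys p hpu, ?_⟩
  -- `u` is conjugate to `t`
  rw [hfu]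
  have hxu : Bad Ω (x * u) := hg ▸ bad_conj ht g
  have hpxu : p ∈ fix Ω (x * u) := by
    show (x * u) • p = p
    rw [mul_smul, hpu, smul_self C hx]
  obtain ⟨x', hx', hx'1, hx'x⟩ : ∃ x' ∈ C.A p, x' ≠ 1 ∧ x' ≠ x := by
    by_contra hcon
    push_neg at hcon
    have hle : (C.A p : Set G) ⊆ {1, x} := fun z hz => by
      by_cases h : z = 1
      · exact Or.inl h
      · exact Or.inr (hcon z hz h)
    have h1 := Set.ncard_le_ncard hle (Set.toFinite _)
    rw [← Nat.card_coe_set_eq, SetLike.coe_sort_coe, C.A_card] at h1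
    have h2 : ({1, x} : Set G).ncard ≤ 2 := (Set.ncard_insert_le _ _).trans (by simp)
    have := Nat.pow_le_pow_right (show 0 < 2 by norm_num) hn
    omega
  obtain ⟨g1, hg1, -, hg1x⟩ := C.torus u hub p hpu x hx hx1 x' hx' hx'1
  have hne : x * x' ≠ 1 := fun h => hx'x (by
    rw [eq_inv_of_mul_eq_one_right h, inv_eq_of_mul_eq_one_right (C.A_inv p x hx)])
  obtain ⟨g2, hg2, -, hg2x⟩ := C.torus (x * u) hxu p hpxu (x * x') (mul_mem hx hx') hne x hx hx1
  have hxinv : x⁻¹ = x := inv_eq_of_mul_eq_one_right (C.A_inv p x hx)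
  have hxx'c : Commute x x' := by
    have hc := C.A_inv p (x * x') (mul_mem hx hx')
    show x * x' = x' * x
    rw [← inv_eq_of_mul_eq_one_right hc, mul_inv_rev, hxinv,
      inv_eq_of_mul_eq_one_right (C.A_inv p x' hx')]
  -- `g1` centralises `u`, `g2` centralises `x * u`
  have e1 : g1 * (x * u) * g1⁻¹ = x' * u := by
    rw [← hg1x]
    have := (commute_of_fix C hub hg1).eq
    calc g1 * (x * u) * g1⁻¹ = g1 * x * g1⁻¹ * (g1 * u * g1⁻¹) := by group
      _ = g1 * x * g1⁻¹ * u := by rw [this]; group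
  have e2 : g2 * (x' * u) * g2⁻¹ = u := by
    have hx'u : x' * u = x * x' * (x * u) := by
      rw [hxx'c.eq, mul_assoc, ← mul_assoc x x u, C.A_inv p x hx, one_mul]
    have := (commute_of_fix C hxu hg2).eq
    calc g2 * (x' * u) * g2⁻¹ = g2 * (x * x') * g2⁻¹ * (g2 * (x * u) * g2⁻¹) := by rw [hx'u]; group
      _ = x * (x * u) := by rw [hg2x, this]; group
      _ = u := by rw [← mul_assoc, C.A_inv p x hx, one_mul]
  refine ⟨g2 * g1 * g, ?_⟩
  rw [← fix_conj, show g2 * g1 * g * t * (g2 * g1 * g)⁻¹ = g2 * (g1 * (g * t * g⁻¹) * g1⁻¹) * g2⁻¹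
    from by group, hg, e1, e2]

theorem eq_or_eq_of_lines {t : G} (ht : Bad Ω t) {r r' p : Ω} {y y' : G} (hr : r ∈ fix Ω t)
    (hr' : r' ∈ fix Ω t) (hy : y ∈ C.A r) (hy' : y' ∈ C.A r') (hb : Bad Ω (t * y))
    (hb' : Bad Ω (t * y')) (hp : p ∉ fix Ω t) (h1 : p ∈ fix Ω (t * y))
    (h2 : p ∈ fix Ω (t * y')) : r = r' ∧ y = y' := by
  have hc : ∀ {r : Ω} {y : G}, r ∈ fix Ω t → y ∈ C.A r → Commute t y := fun hr hy =>
    C.A_cent t _ ht hr _ hy
  have hrmem : ∀ {r : Ω} {y : G}, r ∈ fix Ω t → y ∈ C.A r → r ∈ fix Ω (t * y) := fun hr hy => by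
    show (t * _) • _ = _
    rw [mul_smul, smul_self C hy]; exact hr
  have htp : ∀ {y : G}, Commute t y → p ∈ fix Ω (t * y) → t • p ∈ fix Ω (t * y) := fun h h' =>
    smul_fix_of_commute ((Commute.refl t).mul_right h) h'
  have hne : p ≠ t • p := fun h => hp h.symm
  have hF := fix_eq C hb hb' hne h1 (htp (hc hr hy) h1) h2 (htp (hc hr' hy') h2)
  have hrr : r = r' := by
    by_contra hrr
    exact hp (fix_le C hb ht.1 hrr (hrmem hr hy) (hF ▸ hrmem hr' hy') hr hr' h1)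
  subst hrr
  refine ⟨rfl, ?_⟩
  by_contra hyy
  have hmem : y⁻¹ * y' ∈ C.A r := mul_mem (inv_mem hy) hy'
  have hne1 : y⁻¹ * y' ≠ 1 := fun h => hyy (inv_mul_eq_one.1 h)
  have hfp : (y⁻¹ * y') • p = p := by
    have e : y⁻¹ * y' = (t * y)⁻¹ * (t * y') := by group
    rw [e, mul_smul, show (t * y') • p = p from h2, inv_smul_eq_iff]
    exact h1.symm
  exact hp (eq_of_mem C hmem hne1 hfp ▸ hr)

theorem root_bad (hn : 2 ≤ n) {t : G} (ht : Bad Ω t) {r : Ω} {y : G} (hr : r ∈ fix Ω t)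
    (hy : y ∈ C.A r) (hy1 : y ≠ 1) :
    Bad Ω (t * y) ∧ ∃ g : G, fix Ω (t * y) = g • fix Ω t := by
  obtain ⟨p, hp⟩ := C.moves t ht.1 ht.2.1
  obtain ⟨r0, hr0, y0, hy0, hy01, hb, -, g, hg⟩ := exists_y C hn ht (p := p) hp
  obtain ⟨s, hs, hsr⟩ : ∃ s ∈ fix Ω t, s ≠ r0 := by
    obtain ⟨-, -, a, b, hab, hta, htb⟩ := ht
    by_cases h : a = r0
    · exact ⟨b, htb, fun hb => hab (h.trans hb.symm)⟩
    · exact ⟨a, hta, h⟩
  obtain ⟨g1, hg1, hg1r⟩ := C.gen t ht r0 s r hr0 hs hsr.symm hr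
  have hg1L : g1 ∈ L C.A t := (sup_le (le_iSup₂_of_le r0 hr0 le_rfl)
    (le_iSup₂_of_le s hs le_rfl) : C.A r0 ⊔ C.A s ≤ L C.A t) hg1
  have hy' : g1 * y0 * g1⁻¹ ∈ C.A r := hg1r ▸ C.A_conj g1 r0 y0 hy0
  obtain ⟨g2, hg2, -, hg2y⟩ := C.torus t ht r hr _ hy' (by rwa [ne_eq, conj_eq_one_iff]) y hy hy1
  have hh : g2 * g1 ∈ L C.A t := mul_mem hg2 hg1L
  have e : g2 * g1 * (t * y0) * (g2 * g1)⁻¹ = t * y := by
    calc g2 * g1 * (t * y0) * (g2 * g1)⁻¹
        = g2 * g1 * t * (g2 * g1)⁻¹ * (g2 * (g1 * y0 * g1⁻¹) * g2⁻¹) := by group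
      _ = t * y := by rw [(commute_of_fix C ht hh).eq, mul_inv_cancel_right, hg2y]
  refine ⟨e ▸ bad_conj hb _, g2 * g1 * g, ?_⟩
  rw [← e, fix_conj, hg]
  simp only [mul_smul]

theorem root_mem {t : G} {r : Ω} {y : G} (hr : r ∈ fix Ω t) (hy : y ∈ C.A r) :
    r ∈ fix Ω (t * y) := by
  show (t * y) • r = r
  rw [mul_smul, smul_self C hy]; exact hr

theorem root_not_mem (hn : 2 ≤ n) {t : G} (ht : Bad Ω t) {r : Ω} {y : G} (hr : r ∈ fix Ω t)
    (hy : y ∈ C.A r) (hy1 : y ≠ 1) {p : Ω} (hp : p ∈ fix Ω (t * y)) (hpr : p ≠ r) :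
    p ∉ fix Ω t := fun h => by
  have h1 : y • p = p := by
    have h2 : (t * y) • p = p := hp
    have hc := C.A_cent t r ht hr y hy
    rw [hc.eq, mul_smul, show t • p = p from h] at h2
    exact h2
  exact hpr (eq_of_mem C hy hy1 h1)

theorem card_root {p : Ω} : ((C.A p : Set G) \ {1}).ncard = 2 ^ n - 1 := by
  rw [Set.ncard_diff (Set.singleton_subset_iff.2 (one_mem (C.A p))), Set.ncard_singleton,
    ← Nat.card_coe_set_eq, SetLike.coe_sort_coe, C.A_card]

/-- The number of points. -/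
theorem card_points (hn : 2 ≤ n) {t : G} (ht : Bad Ω t) :
    Nat.card Ω = ((2 ^ n) ^ 2 + 1) * ((2 ^ n - 1) * (2 ^ n) ^ 2 + 1) := by
  classical
  haveI : Fintype Ω := Fintype.ofFinite _
  haveI : Fintype G := Fintype.ofFinite _
  let T : Finset (Ω × G) := Finset.univ.filter fun ry => ry.1 ∈ fix Ω t ∧ ry.2 ∈ C.A ry.1 ∧ ry.2 ≠ 1
  let F : Ω × G → Finset Ω := fun ry => Finset.univ.filter fun p => p ∈ fix Ω (t * ry.2) ∧ p ≠ ry.1
  have hU : T.biUnion F = Finset.univ.filter fun p => p ∉ fix Ω t := by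
    ext p
    simp only [Finset.mem_biUnion, T, F, Finset.mem_filter, Finset.mem_univ, true_and]
    refine ⟨fun ⟨ry, ⟨hr, hy, hy1⟩, hp, hpr⟩ => root_not_mem C hn ht hr hy hy1 hp hpr, fun hp => ?_⟩
    obtain ⟨r, hr, y, hy, hy1, -, hpy, -⟩ := exists_y C hn ht hp
    exact ⟨(r, y), ⟨hr, hy, hy1⟩, hpy, fun h => hp (h ▸ hr)⟩
  have hdisj : (T : Set (Ω × G)).PairwiseDisjoint F := by
    rintro ⟨r, y⟩ hry ⟨r', y'⟩ hry' hne
    simp only [T, Finset.coe_filter, Finset.mem_univ, true_and, Set.mem_ofPred_eq] at hry hry'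
    rw [Function.onFun, Finset.disjoint_left]
    intro p hp hp'
    simp only [F, Finset.mem_filter, Finset.mem_univ, true_and] at hp hp'
    obtain ⟨rfl, rfl⟩ := eq_or_eq_of_lines C ht hry.1 hry'.1 hry.2.1 hry'.2.1
      (root_bad C hn ht hry.1 hry.2.1 hry.2.2).1 (root_bad C hn ht hry'.1 hry'.2.1 hry'.2.2).1
      (root_not_mem C hn ht hry.1 hry.2.1 hry.2.2 hp.1 hp.2) hp.1 hp'.1
    exact hne rfl
  have hF : ∀ ry ∈ T, (F ry).card = (2 ^ n) ^ 2 := by
    rintro ⟨r, y⟩ hry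
    simp only [T, Finset.mem_filter, Finset.mem_univ, true_and] at hry
    have h : ((F (r, y) : Finset Ω) : Set Ω) = fix Ω (t * y) \ {r} := by ext; simp [F]
    rw [← Set.ncard_coe_finset, h,
      Set.ncard_diff_singleton_of_mem (root_mem C hry.1 hry.2.1),
      C.fix_card _ (root_bad C hn ht hry.1 hry.2.1 hry.2.2).1, Nat.add_sub_cancel]
  have hT : T.card = ((2 ^ n) ^ 2 + 1) * (2 ^ n - 1) := by
    have h : T = (Finset.univ.filter fun r : Ω => r ∈ fix Ω t).biUnion fun r =>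
        ({r} : Finset Ω) ×ˢ (Finset.univ.filter fun y : G => y ∈ C.A r ∧ y ≠ 1) := by
      ext ⟨r, y⟩
      simp only [T, Finset.mem_filter, Finset.mem_univ, true_and, Finset.mem_biUnion,
        Finset.mem_product, Finset.mem_singleton]
      exact ⟨fun h => ⟨r, h.1, rfl, h.2⟩, fun ⟨r', h1, h2, h3⟩ => h2 ▸ ⟨h1, h2 ▸ h3⟩⟩
    rw [h, Finset.card_biUnion]
    · have hc : ∀ r : Ω, (Finset.univ.filter fun y : G => y ∈ C.A r ∧ y ≠ 1).card = 2 ^ n - 1 := by
        intro r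
        rw [← card_root C (p := r), ← Set.ncard_coe_finset]
        congr 1; ext; simp
      simp only [Finset.card_product, Finset.card_singleton, one_mul, hc, Finset.sum_const,
        smul_eq_mul]
      congr 1
      rw [← C.fix_card t ht, ← Set.ncard_coe_finset]
      congr 1; ext; simp
    · intro r _ r' _ hne
      simp only [Function.onFun, Finset.disjoint_left, Finset.mem_product, Finset.mem_singleton]
      exact fun x h1 h2 => hne (h1.1.symm.trans h2.1)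
  have h1 := Finset.card_filter_add_card_filter_not (s := (Finset.univ : Finset Ω))
    (fun p => p ∈ fix Ω t)
  rw [← hU, Finset.card_biUnion hdisj, Finset.sum_congr rfl hF, Finset.sum_const, smul_eq_mul, hT,
    Finset.card_univ, ← Nat.card_eq_fintype_card] at h1
  rw [← h1, show (Finset.univ.filter fun p => p ∈ fix Ω t).card = (2 ^ n) ^ 2 + 1 from by
    rw [← C.fix_card t ht, ← Set.ncard_coe_finset]; congr 1; ext; simp]
  ring

/-- `C(t)` is transitive off the line. -/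
theorem L_trans (hn : 2 ≤ n) {t : G} (ht : Bad Ω t) {p p' : Ω} (hp : p ∉ fix Ω t)
    (hp' : p' ∉ fix Ω t) : ∃ g : G, Commute g t ∧ g • p = p' := by
  classical
  obtain ⟨r, hr, y, hy, hy1, hb, hpy, -⟩ := exists_y C hn ht hp
  obtain ⟨r', hr', y', hy', hy'1, hb', hpy', -⟩ := exists_y C hn ht hp'
  obtain ⟨s, hs, hsr⟩ : ∃ s ∈ fix Ω t, s ≠ r := by
    obtain ⟨-, -, a, b, hab, hta, htb⟩ := ht
    by_cases h : a = r
    · exact ⟨b, htb, fun hb => hab (h.trans hb.symm)⟩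
    · exact ⟨a, hta, h⟩
  obtain ⟨g1, hg1, hg1r⟩ := C.gen t ht r s r' hr hs hsr.symm hr'
  have hg1L : g1 ∈ L C.A t := (sup_le (le_iSup₂_of_le r hr le_rfl)
    (le_iSup₂_of_le s hs le_rfl) : C.A r ⊔ C.A s ≤ L C.A t) hg1
  have hy1' : g1 * y * g1⁻¹ ∈ C.A r' := hg1r ▸ C.A_conj g1 r y hy
  obtain ⟨g2, hg2, hg2r, hg2y⟩ :=
    C.torus t ht r' hr' _ hy1' (by rwa [ne_eq, conj_eq_one_iff]) y' hy' hy'1
  have hh : g2 * g1 ∈ L C.A t := mul_mem hg2 hg1L
  -- the stabiliser of `(r', y')` is transitive on its line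
  suffices key : ∀ {p : Ω}, p ∉ fix Ω t → p ∈ fix Ω (t * y') → ∀ {z : Ω}, z ∈ fix Ω (t * y') →
      z ≠ r' → ∃ g : G, Commute g t ∧ g • p = z by
    have e : g2 * g1 * (t * y) * (g2 * g1)⁻¹ = t * y' := by
      calc g2 * g1 * (t * y) * (g2 * g1)⁻¹
          = g2 * g1 * t * (g2 * g1)⁻¹ * (g2 * (g1 * y * g1⁻¹) * g2⁻¹) := by group
        _ = t * y' := by rw [(commute_of_fix C ht hh).eq, mul_inv_cancel_right, hg2y]
    have hmem : (g2 * g1) • p ∈ fix Ω (t * y') := by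
      rw [← e, fix_conj]; exact Set.smul_mem_smul_set hpy
    have hnot : (g2 * g1) • p ∉ fix Ω t := fun h => hp (by
      have h2 := smul_fix_of_commute (commute_of_fix C ht (inv_mem hh)) h
      rwa [inv_smul_smul] at h2)
    obtain ⟨g3, hg3, h3⟩ := key hnot hmem hpy' fun h => hp' (h ▸ hr')
    exact ⟨g3 * (g2 * g1), hg3.mul_left (commute_of_fix C ht hh), by rw [mul_smul, h3]⟩
  intro p hp hpy z hz hzr
  -- root elements of the line of `t * y'` commute with `t`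
  have hrp : p ≠ r' := fun h => hp (h ▸ hr')
  have hb'' := (root_bad C hn ht hr' hy' hy'1).1
  obtain ⟨g, hg, -, hgy, hgs⟩ :=
    C.root_trans (t * y') hb'' r' (root_mem C hr' hy') y' hy' hy'1 p hpy hrp z hz hzr
  refine ⟨g, ?_, hgs⟩
  have h1 : Commute g (t * y' * y') := (commute_of_fix C hb'' hg).mul_right hgy
  rwa [mul_assoc, C.A_inv r' y' hy', mul_one] at h1

/-- **No bad involution**: a bad involution forces `3 ∣ |G|`. -/
theorem three_dvd_card (hn : Odd n) (hn3 : 3 ≤ n) {t : G} (ht : Bad Ω t) : 3 ∣ Nat.card G := by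
  classical
  have hn2 : 2 ≤ n := by omega
  haveI : Fintype Ω := Fintype.ofFinite _
  haveI : Fintype G := Fintype.ofFinite _
  set O : Set (Set Ω) := MulAction.orbit G (fix Ω t) with hO
  haveI : Fintype O := Fintype.ofFinite _
  have hline : ∀ l : O, ∃ v, Bad Ω v ∧ fix Ω v = l ∧ ∃ g : G, v = g * t * g⁻¹ := by
    rintro ⟨_, g, rfl⟩
    exact ⟨_, bad_conj ht g, fix_conj g t, g, rfl⟩
  have hlc : ∀ l : O, ((l : Set Ω)).ncard = (2 ^ n) ^ 2 + 1 := fun l => by
    obtain ⟨v, hv, he, -⟩ := hline l; rw [← he, C.fix_card v hv]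
  have hone : ∀ (p p' : Ω) (l l' : O), p ≠ p' → p ∈ (l : Set Ω) → p' ∈ (l : Set Ω) →
      p ∈ (l' : Set Ω) → p' ∈ (l' : Set Ω) → l = l' := by
    intro p p' l l' hne h1 h2 h3 h4
    obtain ⟨v, hv, he, -⟩ := hline l
    obtain ⟨v', hv', he', -⟩ := hline l'
    rw [← he] at h1 h2; rw [← he'] at h3 h4
    exact Subtype.ext (he ▸ he' ▸ fix_eq C hv hv' hne h1 h2 h3 h4)
  -- lines through a point
  set k : Ω → ℕ := fun p => {l : O | p ∈ (l : Set Ω)}.ncard with hk
  have hmem : ∀ (g : G) (p : Ω) (l : O), g • p ∈ ((g • l : O) : Set Ω) ↔ p ∈ (l : Set Ω) :=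
    fun g p l => by rw [MulAction.orbit.coe_smul, Set.smul_mem_smul_set_iff]
  have hkconst : ∀ p p', k p = k p' := by
    intro p p'
    obtain ⟨g, rfl⟩ := C.trans p p'
    simp only [hk]
    rw [← Set.ncard_image_of_injective _ (MulAction.injective g (β := O))]
    congr 1
    ext l
    simp only [Set.mem_image, Set.mem_ofPred_eq]
    refine ⟨?_, fun hl => ⟨g⁻¹ • l, ?_, smul_inv_smul g l⟩⟩
    · rintro ⟨l', hl', rfl⟩; exact (hmem g p l').2 hl'
    · rw [← hmem g, smul_inv_smul]; exact hl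
  obtain ⟨a, hta⟩ : ∃ a, a ∈ fix Ω t := by
    obtain ⟨-, -, a, b, -, h, -⟩ := ht; exact ⟨a, h⟩
  -- the number of lines through a point is divisible by `q`
  have hqk : 2 ^ n ∣ k a := by
    let J : O → Set G := fun l => {v | v * v = 1 ∧ v ≠ 1 ∧ fix Ω v = l}
    let l0 : O := ⟨fix Ω t, MulAction.mem_orbit_self _⟩
    have hJconst : ∀ l, (J l).ncard = (J l0).ncard := by
      rintro ⟨_, g, rfl⟩
      rw [← Set.ncard_image_of_injective (J l0) (f := fun v => g * v * g⁻¹) (fun v w h => by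
        simpa using h)]
      congr 1
      ext v
      simp only [Set.mem_image, J, Set.mem_ofPred_eq]
      refine ⟨fun ⟨h1, h2, h3⟩ => ⟨g⁻¹ * v * g, ⟨?_, ?_, ?_⟩, by group⟩, ?_⟩
      · calc g⁻¹ * v * g * (g⁻¹ * v * g) = g⁻¹ * (v * v) * g := by group
          _ = 1 := by rw [h1]; group
      · intro h; apply h2
        calc v = g * (g⁻¹ * v * g) * g⁻¹ := by group
          _ = 1 := by rw [h]; group
      · have := fix_conj (Ω := Ω) g⁻¹ v
        rw [inv_inv, h3] at this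
        rw [this, inv_smul_smul]
      · rintro ⟨w, ⟨h1, h2, h3⟩, rfl⟩
        refine ⟨?_, by rwa [ne_eq, conj_eq_one_iff], by rw [fix_conj, h3]⟩
        calc g * w * g⁻¹ * (g * w * g⁻¹) = g * (w * w) * g⁻¹ := by group
          _ = 1 := by rw [h1]; group
    have hJodd : Odd (J l0).ncard := by
      let H : Subgroup G := fixingSubgroup G (fix Ω t)
      have hH : ∀ v, v ∈ H ↔ ∀ x ∈ fix Ω t, v • x = x := fun v => mem_fixingSubgroup_iff G
      have hset : J l0 = {v | v ∈ H ∧ v * v = 1} \ {1} := by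
        ext v
        simp only [J, l0, Set.mem_ofPred_eq, Set.mem_sdiff, Set.mem_singleton_iff, hH]
        refine ⟨fun ⟨h1, h2, h3⟩ => ⟨⟨fun x hx => ?_, h1⟩, h2⟩, ?_⟩
        · rw [← h3] at hx; exact hx
        · rintro ⟨⟨h0, h1⟩, h2⟩
          obtain ⟨-, -, b, c, hbc, hb, hc⟩ := id ht
          have hv : Bad Ω v := ⟨h1, h2, b, c, hbc, h0 b hb, h0 c hc⟩
          exact ⟨h1, h2, fix_eq C hv ht hbc (h0 b hb) (h0 c hc) hb hc⟩
      have heven : Even {v | v ∈ H ∧ v * v = 1}.ncard := by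
        have hHe : 2 ∣ Nat.card H := by
          have : orderOf (⟨t, (hH t).2 fun x hx => hx⟩ : H) = 2 := by
            apply orderOf_eq_prime
            · exact Subtype.ext (by simp [sq, ht.1])
            · exact fun h => ht.2.1 (congrArg Subtype.val h)
          exact this ▸ orderOf_dvd_natCard _
        let f : Function.End H := fun v => v⁻¹
        have hf : f ^ (2 ^ 1) = 1 := by
          rw [pow_one, sq]; funext v; exact inv_inv v
        haveI : Fintype H := Fintype.ofFinite _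
        have h := Equiv.Perm.card_fixedPoints_modEq (p := 2) (n := 1) hf
        have hc : Fintype.card (Function.fixedPoints f) = {v | v ∈ H ∧ v * v = 1}.ncard := by
          rw [← Nat.card_eq_fintype_card, ← Nat.card_coe_set_eq]
          refine Nat.card_congr ⟨fun v => ⟨v.1.1, v.1.2, ?_⟩, fun v => ⟨⟨v.1, v.2.1⟩, ?_⟩,
            fun v => rfl, fun v => rfl⟩
          · have hv : v.1⁻¹ = v.1 := v.2
            have hv' := congrArg Subtype.val (mul_eq_one_iff_inv_eq.2 hv)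
            simpa using hv'
          · exact inv_eq_of_mul_eq_one_right (Subtype.ext (by simpa using v.2.2))
        rw [Nat.card_eq_fintype_card] at hHe
        rw [hc, Nat.ModEq, Nat.dvd_iff_mod_eq_zero.1 hHe] at h
        exact Nat.even_iff.2 h.symm
      rw [hset, Set.ncard_diff_singleton_of_mem (show (1 : G) ∈ {v | v ∈ H ∧ v * v = 1} from
        ⟨one_mem H, mul_one 1⟩)]
      exact Nat.Even.sub_odd (Nat.one_le_iff_ne_zero.2 (Set.ncard_ne_zero_of_mem
        (show (1 : G) ∈ {v | v ∈ H ∧ v * v = 1} from ⟨one_mem H, mul_one 1⟩))) heven odd_one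
    let T : Set G := {v | v * v = 1 ∧ v ≠ 1 ∧ v • a = a ∧ fix Ω v ∈ O}
    have hT : T.ncard = k a * (J l0).ncard := by
      have hU : T.toFinite.toFinset = ({l : O | a ∈ (l : Set Ω)}.toFinite.toFinset).biUnion
          fun l => (J l).toFinite.toFinset := by
        ext v
        simp only [T, J, Finset.mem_biUnion, Set.Finite.mem_toFinset, Set.mem_ofPred_eq]
        exact ⟨fun ⟨h1, h2, h3, h4⟩ => ⟨⟨_, h4⟩, h3, h1, h2, rfl⟩,
          fun ⟨l, hl, h1, h2, h3⟩ => ⟨h1, h2, by rw [← h3] at hl; exact hl, h3 ▸ l.2⟩⟩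
      rw [Set.ncard_eq_toFinset_card T, hU, Finset.card_biUnion]
      · rw [Finset.sum_congr rfl (g := fun _ => (J l0).ncard) fun l _ => by
          rw [← Set.ncard_eq_toFinset_card, hJconst], Finset.sum_const, smul_eq_mul,
          ← Set.ncard_eq_toFinset_card]
      · intro l _ l' _ hne
        rw [Function.onFun, Finset.disjoint_left]
        intro v h h'
        simp only [J, Set.Finite.mem_toFinset, Set.mem_ofPred_eq] at h h'
        exact hne (Subtype.ext (h.2.2.symm.trans h'.2.2))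
    have hTA : ∀ v ∈ T, ∀ b ∈ C.A a, v * b ∈ T := by
      rintro v ⟨h1, h2, h3, h4⟩ b hb
      by_cases hb1 : b = 1
      · rw [hb1, mul_one]; exact ⟨h1, h2, h3, h4⟩
      obtain ⟨g, hg⟩ := h4
      have hv : Bad Ω v := by
        obtain ⟨-, -, c, d, hcd, hc, hd⟩ := bad_conj ht g
        have hgv : g • fix Ω t = fix Ω v := hg
        rw [← fix_conj] at hgv
        exact ⟨h1, h2, c, d, hcd, (hgv ▸ hc : c ∈ fix Ω v), (hgv ▸ hd : d ∈ fix Ω v)⟩
      obtain ⟨hvb, g', hg'⟩ := root_bad C hn2 hv h3 hb hb1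
      refine ⟨hvb.1, hvb.2.1, root_mem C h3 hb, g' * g, ?_⟩
      show (g' * g) • fix Ω t = _
      rw [hg', mul_smul]; congr 1
    have hdvd : Nat.card (C.A a) ∣ T.ncard := by
      have h1 : T = QuotientGroup.mk ⁻¹' ((QuotientGroup.mk : G → G ⧸ C.A a) '' T) := by
        refine Set.Subset.antisymm (Set.subset_preimage_image _ _) ?_
        rintro v ⟨w, hw, hwv⟩
        have := hTA w hw _ (QuotientGroup.eq.1 hwv)
        simpa using this
      rw [h1, ← Nat.card_coe_set_eq, Nat.card_congr (QuotientGroup.preimageMkEquivSubgroupProdSet _ _),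
        Nat.card_prod]
      exact dvd_mul_right _ _
    rw [C.A_card, hT] at hdvd
    exact (Nat.Coprime.pow_left n (Nat.coprime_two_left.2 hJodd)).dvd_of_dvd_mul_right hdvd
  -- constant alpha
  obtain ⟨p0, hp0⟩ := C.moves t ht.1 ht.2.1
  set α : Ω → Set Ω → ℕ := fun p l =>
    {m : O | p ∈ (m : Set Ω) ∧ ((m : Set Ω) ∩ l).Nonempty}.ncard with hα
  have hαsmul : ∀ (g : G) p l, α (g • p) (g • l) = α p l := by
    intro g p l
    simp only [hα]
    rw [← Set.ncard_image_of_injective {m : O | p ∈ (m : Set Ω) ∧ _}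
      (MulAction.injective g (β := O))]
    congr 1
    ext m
    simp only [Set.mem_image, Set.mem_ofPred_eq]
    refine ⟨fun ⟨h1, h2⟩ => ⟨g⁻¹ • m, ⟨?_, ?_⟩, smul_inv_smul g m⟩, ?_⟩
    · rw [← hmem g, smul_inv_smul]; exact h1
    · rw [MulAction.orbit.coe_smul, ← Set.smul_set_nonempty (a := g), Set.smul_set_inter,
        smul_inv_smul]; exact h2
    · rintro ⟨m, ⟨h1, h2⟩, rfl⟩
      exact ⟨(hmem g p m).2 h1, by rw [MulAction.orbit.coe_smul, ← Set.smul_set_inter]; exact h2.smul_set⟩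
  have hαc : ∀ (p : Ω) (l : O), p ∉ (l : Set Ω) → α p l = α p0 (fix Ω t) := by
    rintro p ⟨_, g, rfl⟩ hpl
    have hq : g⁻¹ • p ∉ fix Ω t := fun h => hpl (Set.mem_smul_set_iff_inv_smul_mem.2 h)
    obtain ⟨h, hh, hhp⟩ := L_trans C hn2 ht hq hp0
    have hfix : h • fix Ω t = fix Ω t := by
      rw [← fix_conj, hh.eq, mul_inv_cancel_right]
    have e1 := hαsmul g (g⁻¹ • p) (fix Ω t)
    rw [smul_inv_smul] at e1
    have e2 := hαsmul h (g⁻¹ • p) (fix Ω t)
    rw [hhp, hfix] at e2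
    exact e1.trans e2.symm
  have hlineF : ∀ l : O, (Finset.univ.filter fun p => p ∈ (l : Set Ω)).card = (2 ^ n) ^ 2 + 1 :=
    fun l => by rw [← hlc l, ← Set.ncard_coe_finset]; congr 1; ext; simp
  have hpointF : ∀ p, (Finset.univ.filter fun l : O => p ∈ (l : Set Ω)).card = k a := fun p => by
    rw [← hkconst p a, hk, ← Set.ncard_coe_finset]; congr 1; ext; simp
  have hαF : ∀ (p : Ω) (l : O), ¬ p ∈ (l : Set Ω) →
      (Finset.univ.filter fun m : O =>
        p ∈ (m : Set Ω) ∧ ∃ x, x ∈ (m : Set Ω) ∧ x ∈ (l : Set Ω)).card = α p0 (fix Ω t) :=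
    fun p l h => by
      rw [← hαc p l h, hα, ← Set.ncard_coe_finset]; congr 1; ext; simp [Set.Nonempty]
  have h3 := Geometry.three_dvd_card_lines (fun (p : Ω) (l : O) => p ∈ (l : Set Ω))
    (n := n) rfl hn hn3 hlineF hpointF hone hαF
    (by rw [← Nat.card_eq_fintype_card, card_points C hn2 ht]) hqk
  refine h3.trans ?_
  rw [← Nat.card_eq_fintype_card]
  refine Dvd.intro (Nat.card (MulAction.stabilizer G (fix Ω t))) ?_
  rw [← Nat.card_prod]
  exact Nat.card_congr (MulAction.orbitProdStabilizerEquivGroup G (fix Ω t))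

end Cfsg.Agent.Lib.ThreeFree.Lines
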