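import Mathlib

/-!
# The partial geometry of a bad involution in a 3'-group (S0336)

A finite incidence structure with lines of `q ^ 2 + 1` points (`q = 2 ^ n`, `n` odd), two points on
at most one line, `k` lines on each point with `q ∣ k`, a constant number `α` of lines through a
point `p` meeting a line not through `p`, and `(q ^ 2 + 1) ((q - 1) q ^ 2 + 1)` points, has a number
of lines divisible by `3`.
-/

namespace Cfsg.Agent.Lib.ThreeFree.Geometry

open Finset Matrix

/-- The arithmetic: the multiplicity condition forces `j = q`. -/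
theorem j_eq {q j Y : ℤ} (hq : 8 ≤ q) (h2 : 2 ∣ q) (h3 : q % 3 = 2) (hj0 : 0 ≤ j) (hjq : j ≤ q)
    (hY : (q ^ 2 + q - 1 + j * q * (q - 2)) * Y = (1 + j * (q - 1)) * (q - 1) * (q ^ 2 + 1)) :
    j = q := by
  obtain ⟨W, hW⟩ : ∃ W, W = q ^ 2 + q - 1 + j * q * (q - 2) := ⟨_, rfl⟩
  rw [← hW] at hY
  have hWpos : 0 < W := by
    have : 0 ≤ j * q * (q - 2) := mul_nonneg (mul_nonneg hj0 (by omega)) (by omega)
    nlinarith
  obtain ⟨d, hd⟩ : ∃ d, d = q ^ 2 + 2 - Y := ⟨_, rfl⟩
  have hdW : d * W + j * (2 * q + 1) = q ^ 4 + 2 * q ^ 2 + q - 1 := by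
    subst hd; subst hW; linear_combination -hY
  have hjd : j < d := by
    by_contra hc
    have hc : d ≤ j := not_lt.1 hc
    have h1 : d * W ≤ j * W := mul_le_mul_of_nonneg_right hc hWpos.le
    have hWub : W ≤ q ^ 2 + q - 1 + q * q * (q - 2) := by
      have : j * q * (q - 2) ≤ q * q * (q - 2) :=
        mul_le_mul_of_nonneg_right (mul_le_mul_of_nonneg_right hjq (by omega)) (by omega)
      linarith
    have h5 : j * (W + (2 * q + 1)) ≤ q * (q ^ 2 + q - 1 + q * q * (q - 2) + (2 * q + 1)) :=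
      mul_le_mul hjq (by linarith) (by positivity) (by omega)
    nlinarith
  obtain ⟨i, hi⟩ : q ∣ d - j - 1 := by
    refine ⟨d * (q + 1 + j * (q - 2)) + 2 * j - q ^ 3 - 2 * q - 1, ?_⟩
    rw [hW] at hdW
    linear_combination -hdW
  have hi0 : 0 ≤ i := by
    by_contra hc
    have : q * i ≤ q * (-1) := mul_le_mul_of_nonneg_left (by omega) (by omega)
    omega
  have hE : i * W + j ^ 2 * (q - 2) + j * (2 * q + 1) = q ^ 3 + q := by
    apply mul_left_cancel₀ (show q ≠ 0 by omega)
    rw [hW] at hdW ⊢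
    linear_combination hdW - (q ^ 2 + q - 1 + j * q * (q - 2)) * hi
  by_contra hne
  have hjlt : j < q := lt_of_le_of_ne hjq hne
  by_cases hiz : i = 0
  · subst hiz
    have h : (j - q) * ((q - 2) * (j + q) + 2 * q + 1) = 0 := by linear_combination hE
    have hpos : 0 ≤ (q - 2) * (j + q) := mul_nonneg (by omega) (by omega)
    rcases mul_eq_zero.1 h with h | h <;> omega
  have hi1 : 1 ≤ i := by omega
  have hijq : i + j ≤ q + 2 := by
    have hmul : i * (j + 1) ≤ q + 2 := by
      by_contra hc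
      have hW' : (j + 1) * q * (q - 2) ≤ W := by rw [hW]; nlinarith
      have h1 : i * ((j + 1) * q * (q - 2)) ≤ i * W := mul_le_mul_of_nonneg_left hW' hi0
      have h2 : (q + 3) * (q * (q - 2)) ≤ i * (j + 1) * (q * (q - 2)) :=
        mul_le_mul_of_nonneg_right (by omega) (mul_nonneg (by omega) (by omega))
      have h4 : 0 ≤ j ^ 2 * (q - 2) + j * (2 * q + 1) :=
        add_nonneg (mul_nonneg (sq_nonneg j) (by omega)) (mul_nonneg hj0 (by omega))
      nlinarith
    have h6 : 0 ≤ (i - 1) * j := mul_nonneg (by omega) hj0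
    nlinarith
  -- congruences modulo `q - 2` and `q - 1`
  have hm2 : (q - 2) ∣ 5 * (i + j - 2) := by
    refine ⟨-(i * (q + 3 + j * q) + j ^ 2 + 2 * j - (q ^ 2 + 2 * q + 5)), ?_⟩
    rw [hW] at hE
    linear_combination hE
  have hm1 : (q - 1) ∣ (j - 1) * (i + j - 2) := by
    refine ⟨i * (q + 2 + j * (q - 1)) + j ^ 2 + 2 * j - (q ^ 2 + q + 2), ?_⟩
    rw [hW] at hE
    linear_combination -hE
  obtain ⟨c, hc⟩ := hm2
  have hc6 : c ≤ 6 := by
    by_contra h
    have : (q - 2) * 7 ≤ (q - 2) * c := mul_le_mul_of_nonneg_left (by omega) (by omega)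
    omega
  by_cases hc0 : c ≤ 0
  · have h : (q - 2) * c ≤ 0 := mul_nonpos_of_nonneg_of_nonpos (by omega) hc0
    have hij2 : i + j ≤ 2 := by omega
    have hcases : (i = 1 ∧ j = 0) ∨ (i = 2 ∧ j = 0) ∨ (i = 1 ∧ j = 1) := by omega
    rw [hW] at hE
    rcases hcases with ⟨rfl, rfl⟩ | ⟨rfl, rfl⟩ | ⟨rfl, rfl⟩ <;> nlinarith
  have hdiv : (q - 1) ∣ (j - 1) := by
    by_cases hc5 : c = 5
    · subst hc5
      have hw : i + j - 2 = q - 2 := by omega
      rw [hw] at hm1
      obtain ⟨e, he⟩ := hm1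
      exact ⟨(j - 1) - e, by linear_combination -he⟩
    have h1 : (q - 1) ∣ c * (j - 1) := by
      obtain ⟨e, he⟩ := hm1
      refine ⟨c * (j - 1) - 5 * e, ?_⟩
      linear_combination -5 * he + (j - 1) * hc
    have hcop : IsCoprime (q - 1) (6 : ℤ) :=
      ⟨1, -((q - 2) / 6), by omega⟩
    have h36 : (q - 1) ∣ 36 * (j - 1) := by
      have hc' : c = 1 ∨ c = 2 ∨ c = 3 ∨ c = 4 ∨ c = 6 := by omega
      obtain ⟨e, he⟩ := h1
      rcases hc' with rfl | rfl | rfl | rfl | rfl
      exacts [⟨36 * e, by linear_combination 36 * he⟩, ⟨18 * e, by linear_combination 18 * he⟩,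
        ⟨12 * e, by linear_combination 12 * he⟩, ⟨9 * e, by linear_combination 9 * he⟩,
        ⟨6 * e, by linear_combination 6 * he⟩]
    exact (hcop.mul_right hcop).dvd_of_dvd_mul_left (by simpa using h36)
  obtain ⟨e, he⟩ := hdiv
  have he0 : e = 0 := by
    rcases lt_trichotomy e 0 with h | h | h
    · have : (q - 1) * e ≤ (q - 1) * (-1) := mul_le_mul_of_nonneg_left (by omega) (by omega)
      omega
    · exact h
    · have : (q - 1) * 1 ≤ (q - 1) * e := mul_le_mul_of_nonneg_left (by omega) (by omega)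
      omega
  subst he0
  have hj1 : j = 1 := by omega
  subst hj1
  rw [hW] at hE
  have h : (q - 1) * (i * (2 * q + 1) - (q ^ 2 + q - 1)) = 0 := by linear_combination hE
  have h' : i * (2 * q + 1) = q ^ 2 + q - 1 := by
    rcases mul_eq_zero.1 h with h | h <;> omega
  have h5 : (2 * q + 1) ∣ (5 : ℤ) := ⟨2 * q + 1 - 4 * i, by linear_combination 4 * h'⟩
  have := Int.le_of_dvd (by norm_num) h5
  omega

variable {P L : Type*} [Fintype P] [Fintype L] (I : P → L → Prop) [∀ p, DecidablePred (I p)]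

/-- The incidence matrix. -/
def inc : Matrix P L ℚ := Matrix.of fun p l => if I p l then 1 else 0

/-- The all ones matrix. -/
def ones (P Q : Type*) : Matrix P Q ℚ := Matrix.of fun _ _ => 1

/-- An idempotent rational matrix has a natural number as trace. -/
theorem trace_idem [DecidableEq P] (E : Matrix P P ℚ) (h : E * E = E) :
    ∃ r : ℕ, E.trace = r := by
  have hid : IsIdempotentElem (Matrix.toLin' E) := by
    unfold IsIdempotentElem
    rw [Module.End.mul_eq_comp, ← Matrix.toLin'_mul, h]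
  have hp := (LinearMap.isProj_range_iff_isIdempotentElem _).2 hid
  exact ⟨_, by rw [← Matrix.trace_toLin'_eq]; exact hp.trace⟩

open Classical in
/-- **The geometry lemma**: the number of lines is divisible by three. -/
theorem three_dvd_card_lines {n q k α : ℕ} (hq : q = 2 ^ n) (hn : Odd n) (hn3 : 3 ≤ n)
    (hline : ∀ l, #{p | I p l} = q ^ 2 + 1) (hpoint : ∀ p, #{l | I p l} = k)
    (hone : ∀ p p' l l', p ≠ p' → I p l → I p' l → I p l' → I p' l' → l = l')
    (hα : ∀ p l, ¬ I p l → #{m | I p m ∧ ∃ p', I p' m ∧ I p' l} = α)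
    (hcard : Fintype.card P = (q ^ 2 + 1) * ((q - 1) * q ^ 2 + 1)) (hk : q ∣ k) :
    3 ∣ Fintype.card L := by
  classical
  rcases isEmpty_or_nonempty L with hL | ⟨⟨l0⟩⟩
  · simp
  have hq8 : 8 ≤ q := hq ▸ le_trans (by norm_num) (Nat.pow_le_pow_right (by norm_num) hn3)
  have hq2 : 2 ∣ q := hq ▸ dvd_pow_self 2 (by omega)
  have hq3 : q % 3 = 2 := by
    obtain ⟨m, rfl⟩ := hn
    subst hq
    rw [pow_add, pow_mul, Nat.mul_mod, Nat.pow_mod]
    norm_num
  -- points of two lines through `p`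
  have hCeq : ∀ p l, ¬ I p l → ∀ m, I p m →
      #{p' | I p' m ∧ I p' l} = if ∃ p', I p' m ∧ I p' l then 1 else 0 := by
    intro p l hpl m hpm
    split_ifs with h
    · obtain ⟨a, ha⟩ := h
      rw [card_eq_one]
      refine ⟨a, eq_singleton_iff_unique_mem.2 ⟨by simpa using ha, fun b hb => ?_⟩⟩
      simp only [mem_filter, mem_univ, true_and] at hb
      by_contra hne
      exact hpl (hone b a m l hne hb.1 ha.1 hb.2 ha.2 ▸ hpm)
    · simp only [card_eq_zero, filter_eq_empty_iff]
      exact fun a _ ha => h ⟨a, ha⟩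
  let M : Matrix P L ℚ := inc I
  let C : Matrix L L ℚ := Mᵀ * M
  have hC : ∀ m l, C m l = (#{p' | I p' m ∧ I p' l} : ℕ) := by
    intro m l
    simp [C, M, inc, Matrix.mul_apply, Finset.sum_ite, filter_filter, and_comm]
  let B : Matrix P P ℚ := M * Mᵀ
  let f : ℚ := (q : ℚ) ^ 2 + 1
  let W : ℚ := f + k - 1 - α
  have hBM : B * M = W • M + (α : ℚ) • ones P L := by
    ext p l
    rw [show B * M = M * C from Matrix.mul_assoc _ _ _, Matrix.mul_apply]
    simp only [Matrix.add_apply, Matrix.smul_apply, smul_eq_mul, ones, Matrix.of_apply, mul_one]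
    simp only [M, inc, Matrix.of_apply, ite_mul, one_mul, zero_mul, ← sum_filter]
    simp only [hC]
    by_cases hpl : I p l
    · rw [if_pos hpl, ← add_sum_erase _ _ (a := l) (by simp [hpl])]
      have hrest : ∀ m ∈ ({m | I p m} : Finset L).erase l,
          ((#{p' | I p' m ∧ I p' l} : ℕ) : ℚ) = 1 := by
        intro m hm
        simp only [mem_erase, mem_filter, mem_univ, true_and] at hm
        have : #{p' | I p' m ∧ I p' l} = 1 := by
          rw [card_eq_one]
          refine ⟨p, eq_singleton_iff_unique_mem.2 ⟨by simp [hm.2, hpl], fun b hb => ?_⟩⟩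
          simp only [mem_filter, mem_univ, true_and] at hb
          by_contra hne
          exact hm.1 (hone b p m l hne hb.1 hm.2 hb.2 hpl)
        rw [this, Nat.cast_one]
      rw [sum_congr rfl hrest, sum_const, card_erase_of_mem (by simp [hpl]), hpoint]
      have hk1 : 1 ≤ k := hpoint p ▸ card_pos.2 ⟨l, by simp [hpl]⟩
      have hll : #{p' | I p' l ∧ I p' l} = q ^ 2 + 1 := by simpa using hline l
      rw [hll, nsmul_eq_mul, Nat.cast_sub hk1]
      simp only [W, f]
      push_cast
      ring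
    · rw [if_neg hpl, mul_zero, zero_add, ← hα p l hpl, ← Nat.cast_sum]
      congr 1
      rw [sum_congr rfl fun m hm => hCeq p l hpl m (by simpa using hm)]
      simp [Finset.sum_boole, filter_filter]
  let N : ℚ := Fintype.card P
  have hrow : M * (ones L P) = (k : ℚ) • ones P P := by
    ext p p'
    simp [M, inc, ones, Matrix.mul_apply, Finset.sum_boole, hpoint]
  have hcol : (ones P P) * M = f • ones P L := by
    ext p l
    simp [M, inc, ones, f, Matrix.mul_apply, Finset.sum_boole, hline]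
  have hMt : (ones P L) * Mᵀ = (k : ℚ) • ones P P := by
    ext p p'
    simp [M, inc, ones, Matrix.mul_apply, Finset.sum_boole, hpoint]
  have hJB : ones P P * B = (f * k) • ones P P := by
    rw [show ones P P * B = ones P P * M * Mᵀ from (Matrix.mul_assoc _ _ _).symm, hcol,
      Matrix.smul_mul, hMt, smul_smul]
  have hBJ : B * ones P P = (f * k) • ones P P := by
    have hB : Bᵀ = B := by simp [B, Matrix.transpose_mul]
    have hJ : (ones P P)ᵀ = ones P P := by ext; simp [ones]
    have := congrArg Matrix.transpose hJB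
    rwa [Matrix.transpose_mul, hB, hJ, Matrix.transpose_smul, hJ] at this
  have hJJ : ones P P * ones P P = N • ones P P := by
    ext p p'; simp [ones, N, Matrix.mul_apply]
  have hBB : B * B = W • B + (α * k : ℚ) • ones P P := by
    rw [show B * B = B * M * Mᵀ from (Matrix.mul_assoc _ _ _).symm, hBM, Matrix.add_mul,
      Matrix.smul_mul, Matrix.smul_mul, hMt, smul_smul]
  -- double counting
  have hNpos : 0 < Fintype.card P := by rw [hcard]; positivity
  obtain ⟨p0⟩ : Nonempty P := Fintype.card_pos_iff.1 hNpos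
  have hNne : N ≠ 0 := by simp [N, hNpos.ne']
  have key : (f * k) ^ 2 = W * (f * k) + α * k * N := by
    have h1 := congrArg (fun X => ones P P * X) hBB
    simp only [← Matrix.mul_assoc, hJB, Matrix.smul_mul, Matrix.mul_add, Matrix.mul_smul, hJJ,
      smul_smul, ← add_smul] at h1
    have h2 := congrFun (congrFun h1 p0) p0
    simp [ones] at h2
    linarith
  obtain ⟨p1, hp1⟩ : ∃ p, ¬ I p l0 := by
    by_contra h
    push_neg at h
    have : Fintype.card P = q ^ 2 + 1 := by
      rw [← hline l0, ← card_univ, filter_true_of_mem fun p _ => h p]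
    rw [hcard] at this
    have h1 : (q - 1) * q ^ 2 + 1 = 1 := by
      nlinarith [show 0 < q ^ 2 + 1 by positivity]
    have : 0 < (q - 1) * q ^ 2 := Nat.mul_pos (by omega) (by positivity)
    omega
  have hkpos : 0 < k := by
    obtain ⟨a, ha⟩ : ({p | I p l0} : Finset P).Nonempty := card_pos.1 (by rw [hline]; positivity)
    exact hpoint a ▸ card_pos.2 ⟨l0, by simpa using ha⟩
  have hαf : α ≤ q ^ 2 + 1 := by
    rw [← hα p1 l0 hp1, ← hline l0]
    let g : L → P := fun m => if h : ∃ p', I p' m ∧ I p' l0 then h.choose else p0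
    refine card_le_card_of_injOn g (fun m hm => ?_) ?_
    · simp only [coe_filter, mem_univ, true_and, Set.mem_setOf_eq] at hm ⊢
      simp only [g, dif_pos hm.2]
      exact hm.2.choose_spec.2
    · intro m hm m' hm' he
      simp only [coe_filter, mem_univ, true_and, Set.mem_setOf_eq] at hm hm'
      simp only [g, dif_pos hm.2, dif_pos hm'.2] at he
      refine hone p1 hm.2.choose m m' (fun h => hp1 (h ▸ hm.2.choose_spec.2)) hm.1
        hm.2.choose_spec.1 hm'.1 (he ▸ hm'.2.choose_spec.1)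
  have hkα : (k : ℤ) = 1 + ((q : ℤ) - 1) * α := by
    have hNval : N = f * (((q : ℚ) - 1) * q ^ 2 + 1) := by
      simp only [N, f, hcard]; push_cast [Nat.cast_sub (show 1 ≤ q by omega)]; ring
    have hfk : f * k ≠ 0 := mul_ne_zero (by positivity) (by positivity)
    have h : (f * k) * ((q : ℚ) ^ 2 * ((k : ℚ) - 1 - (q - 1) * α)) = 0 := by
      rw [hNval] at key
      simp only [W, f] at key ⊢
      linear_combination key
    rcases mul_eq_zero.1 h with h | h
    · exact absurd h hfk
    rcases mul_eq_zero.1 h with h | h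
    · simp at h; omega
    have h : ((k : ℤ) : ℚ) = ((1 + ((q : ℤ) - 1) * α : ℤ) : ℚ) := by push_cast; linarith
    exact_mod_cast h
  obtain ⟨j, hj⟩ : (q : ℤ) ∣ (α : ℤ) - 1 := by
    obtain ⟨c, hc⟩ := hk
    refine ⟨(α : ℤ) - c, ?_⟩
    push_cast [hc] at hkα
    linear_combination hkα
  have hj0 : 0 ≤ j := by
    by_contra h
    have : (q : ℤ) * j ≤ (q : ℤ) * (-1) := mul_le_mul_of_nonneg_left (by omega) (by omega)
    omega
  have hjq : j ≤ q := by
    have h1 : (α : ℤ) ≤ (q : ℤ) ^ 2 + 1 := by exact_mod_cast hαf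
    nlinarith
  -- the multiplicity
  have hWq : W = (((q : ℤ) ^ 2 + q - 1 + j * q * (q - 2) : ℤ) : ℚ) := by
    have h1 : (k : ℚ) = 1 + ((q : ℚ) - 1) * α := by exact_mod_cast hkα
    have h2 : (α : ℚ) - 1 = q * j := by exact_mod_cast hj
    simp only [W, f]
    push_cast
    linear_combination h1 + ((q : ℚ) - 2) * h2
  have hWne : W ≠ 0 := by
    rw [hWq, Int.cast_ne_zero]
    have h1 : (0 : ℤ) ≤ j * q * (q - 2) := mul_nonneg (by positivity) (by omega)
    nlinarith
  let E : Matrix P P ℚ := W⁻¹ • (B - (f * k / N) • ones P P)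
  have hE : E * E = E := by
    have h0 : (B - (f * k / N) • ones P P) * (B - (f * k / N) • ones P P)
        = W • (B - (f * k / N) • ones P P) := by
      simp only [Matrix.sub_mul, Matrix.mul_sub, Matrix.smul_mul, Matrix.mul_smul, hBB, hBJ, hJB,
        hJJ, smul_smul, smul_sub]
      ext a b
      simp only [Matrix.sub_apply, Matrix.add_apply, Matrix.smul_apply, ones, Matrix.of_apply,
        smul_eq_mul]
      field_simp
      linear_combination -key
    simp only [E, Matrix.smul_mul, Matrix.mul_smul, h0, smul_smul]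
    rw [inv_mul_cancel₀ hWne, mul_one]
  obtain ⟨r, hr⟩ := trace_idem E hE
  have htr : B.trace = N * k := by
    simp [B, M, inc, N, Matrix.trace, Matrix.mul_apply, ← ite_and, Finset.sum_boole, hpoint]
  have hrW : (r : ℚ) * W = k * (N - f) := by
    rw [← hr]
    simp only [E, Matrix.trace_smul, Matrix.trace_sub, htr, smul_eq_mul]
    have hJt : (ones P P).trace = N := by simp [ones, N, Matrix.trace]
    rw [hJt]
    field_simp
  obtain ⟨κ, hκ⟩ := hk
  have hkj : (k : ℤ) = q * (1 + j * (q - 1)) := by linear_combination hkα + ((q : ℤ) - 1) * hj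
  have hrZ : (r : ℤ) * ((q : ℤ) ^ 2 + q - 1 + j * q * (q - 2)) =
      (q : ℤ) ^ 3 * ((1 + j * (q - 1)) * (q - 1) * (q ^ 2 + 1)) := by
    have h1 : (k : ℚ) = q * (1 + j * ((q : ℚ) - 1)) := by exact_mod_cast hkj
    rw [hWq, h1] at hrW
    simp only [N, f, hcard] at hrW
    push_cast [Nat.cast_sub (show 1 ≤ q by omega)] at hrW
    have h : (((r : ℤ) * ((q : ℤ) ^ 2 + q - 1 + j * q * (q - 2)) : ℤ) : ℚ) =
        (((q : ℤ) ^ 3 * ((1 + j * (q - 1)) * (q - 1) * (q ^ 2 + 1)) : ℤ) : ℚ) := by
      push_cast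
      linear_combination hrW
    exact_mod_cast h
  have hcop : IsCoprime ((q : ℤ) ^ 2 + q - 1 + j * q * (q - 2)) (q : ℤ) :=
    ⟨-1, q + 1 + j * (q - 2), by ring⟩
  obtain ⟨Y, hY⟩ := hcop.pow_right.dvd_of_dvd_mul_left ⟨r, by rw [← hrZ]; ring⟩
  have hjeq := j_eq (by omega : (8 : ℤ) ≤ q) (by omega) (by omega) hj0 hjq hY.symm
  have h3k : (3 : ℤ) ∣ k := by
    rw [hkj, hjeq]
    obtain ⟨a, ha⟩ : ∃ a : ℤ, (q : ℤ) = 3 * a + 2 := ⟨(q : ℤ) / 3, by omega⟩
    rw [ha]
    exact ⟨(3 * a + 2) * (3 * a ^ 2 + 3 * a + 1), by ring⟩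
  have hcount : Fintype.card L * (q ^ 2 + 1) = Fintype.card P * k := by
    calc Fintype.card L * (q ^ 2 + 1) = ∑ l : L, #{p | I p l} := by simp [hline]
      _ = ∑ p : P, #{l | I p l} := by
          simp only [card_filter]; exact Finset.sum_comm
      _ = Fintype.card P * k := by simp [hpoint]
  have h3 : 3 ∣ Fintype.card L * (q ^ 2 + 1) := by
    rw [hcount]; exact Dvd.dvd.mul_left (by exact_mod_cast h3k) _
  refine (Nat.Coprime.dvd_of_dvd_mul_right ?_ h3)
  rw [Nat.Prime.coprime_iff_not_dvd Nat.prime_three, Nat.dvd_iff_mod_eq_zero, Nat.add_mod,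
    Nat.pow_mod, hq3]
  norm_num

end Cfsg.Agent.Lib.ThreeFree.Geometry
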